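import Mathlib

/-!
# Algebras of small dimension over a large field are Jacobson
-/

universe u

open Cardinal

namespace Groth.Agent.LargeFieldLib

variable {K : Type u} [Field K]

theorem isAlgebraic_of_rank_lt (L : Type u) [Field L] [Algebra K L] (h : Module.rank K L < #K) :
    Algebra.IsAlgebraic K L := by
  refine ⟨fun x => ?_⟩
  by_contra hx
  exact (lt_irrefl _) (((Transcendental.linearIndependent_sub_inv hx).cardinal_le_rank).trans_lt h)

theorem rank_away_le {R : Type u} [CommRing R] [Algebra K R] (f : R) :
    Module.rank K (Localization.Away f) ≤ max ℵ₀ (Module.rank K R) := by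
  let g : (ℕ →₀ R) →ₗ[K] Localization.Away f :=
    Finsupp.lsum K fun n : ℕ =>
      (LinearMap.mulRight K ((IsLocalization.Away.invSelf (S := Localization.Away f) f) ^ n)).comp
        (IsScalarTower.toAlgHom K R (Localization.Away f)).toLinearMap
  have hg : Function.Surjective g := by
    intro z
    obtain ⟨n, a, h⟩ := IsLocalization.Away.surj f z
    refine ⟨Finsupp.single n a, ?_⟩
    have h1 := IsLocalization.Away.mul_invSelf (S := Localization.Away f) f
    simp only [g, Finsupp.lsum_single, LinearMap.comp_apply, LinearMap.mulRight_apply, AlgHom.toLinearMap_apply,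
      IsScalarTower.coe_toAlgHom']
    rw [← h, mul_assoc, ← mul_pow, h1, one_pow, mul_one]
  refine (LinearMap.rank_le_of_surjective g hg).trans ?_
  rw [rank_finsupp, lift_uzero, mk_nat, lift_aleph0]
  exact (mul_le_max _ _).trans (max_le (max_le (le_max_left _ _) (le_max_right _ _)) (le_max_left _ _))

theorem isJacobsonRing_of_rank_lt (R : Type u) [CommRing R] [Algebra K R] (h0 : ℵ₀ < #K)
    (h : Module.rank K R < #K) : IsJacobsonRing R := by
  rw [isJacobsonRing_iff_prime_eq]
  intro P hP
  refine le_antisymm (fun f hf => ?_) Ideal.le_jacobson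
  by_contra hfP
  let D := R ⧸ P
  let fb : D := Ideal.Quotient.mk P f
  have hfb : fb ≠ 0 := fun h => hfP (Ideal.Quotient.eq_zero_iff_mem.mp h)
  let S := Localization.Away fb
  haveI : Nontrivial S := (IsLocalization.injective S
    (powers_le_nonZeroDivisors_of_noZeroDivisors hfb)).nontrivial
  obtain ⟨m, hm⟩ := Ideal.exists_maximal S
  letI : Field (S ⧸ m) := Ideal.Quotient.field m
  have hrk : Module.rank K (S ⧸ m) < #K :=
    ((LinearMap.rank_le_of_surjective (Ideal.Quotient.mkₐ K m).toLinearMap Ideal.Quotient.mk_surjective).trans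
      (rank_away_le fb)).trans_lt (max_lt h0
      ((LinearMap.rank_le_of_surjective (Ideal.Quotient.mkₐ K P).toLinearMap Ideal.Quotient.mk_surjective).trans_lt h))
  haveI := isAlgebraic_of_rank_lt (S ⧸ m) hrk
  let ψ : R →ₐ[K] S ⧸ m :=
    (Ideal.Quotient.mkₐ K m).comp ((IsScalarTower.toAlgHom K D S).comp (Ideal.Quotient.mkₐ K P))
  -- the range is a domain integral over `K`, hence a field
  have hq : (RingHom.ker ψ.toRingHom).IsMaximal := by
    haveI : (RingHom.ker ψ.toRingHom).IsPrime := RingHom.ker_isPrime _
    have hfield : IsField ψ.range :=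
      Subalgebra.isField_of_algebraic ψ.range
    have e := RingHom.quotientKerEquivRange ψ.toRingHom
    exact Ideal.Quotient.maximal_of_isField _ (e.toMulEquiv.isField hfield)
  have hP' : P ≤ RingHom.ker ψ.toRingHom := by
    intro x hx
    rw [RingHom.mem_ker]
    rw [show ψ.toRingHom x = Ideal.Quotient.mk m (algebraMap D S (Ideal.Quotient.mk P x)) from rfl,
      Ideal.Quotient.eq_zero_iff_mem.mpr hx, map_zero, map_zero]
  have hfk : f ∈ RingHom.ker ψ.toRingHom := Ideal.mem_sInf.mp hf ⟨hP', hq⟩
  rw [RingHom.mem_ker] at hfk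
  have hu : IsUnit (ψ f) := (IsLocalization.Away.algebraMap_isUnit (S := S) fb).map (Ideal.Quotient.mk m)
  exact hu.ne_zero hfk

end Groth.Agent.LargeFieldLib
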